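import Cfsg.Agent.H89.MathieuTwo

/-!
The facts behind a Sylow 2-certificate of a subgroup of M24, exported for use in overgroups.
-/

set_option autoImplicit false

namespace Cfsg.Agent.H46.McLFusion

open Cfsg Cfsg.Agent.Golay Cfsg.Agent.H89.MathieuTwo
open scoped Pointwise

attribute [local irreducible] tblMul idTbl inStab tblEq memT

variable {E : List ℕ} {F : ℕ}

/-- The listed group, its normaliser in `X` and its rigidity under conjugation by `X`. -/
theorem facts_of_checkAll {pc : List (ℕ × ℕ)} {z : ℕ} {fus : List (ℕ × ℕ × List ℕ)}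
    {words : List (List ℕ)} {inv : List ℕ} {steps : List (ℕ × ℕ)}
    (h : checkAll E F pc z fus words inv steps = true) {X : Subgroup (Equiv.Perm GolayPt)}
    (hXeq : X = stabGrp E F) {n : ℕ} (hn : ¬ 2 ∣ n) (hcard : Nat.card X = 2 ^ pc.length * n) :
    ∃ H : Subgroup (Equiv.Perm GolayPt), (∀ σ, σ ∈ H ↔ ∃ t ∈ elems pc, mkPerm t = σ) ∧
      (∀ t ∈ elems pc, validT t = true) ∧ H ≤ X ∧ Nat.card H = 2 ^ pc.length ∧
      (∀ m ∈ Subgroup.normalizer (H : Set (Equiv.Perm GolayPt)), m ∈ X → m ∈ H) ∧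
      ∀ T : Subgroup (Equiv.Perm GolayPt), T ≤ H →
        (∀ x ∈ T, ∀ g ∈ X, g * x * g⁻¹ ∈ H → g * x * g⁻¹ ∈ T) →
        (∃ w ∈ T, w ≠ 1 ∧ ∀ s ∈ H, s * w = w * s) → H ≤ T := by
  simp only [checkAll, Bool.and_eq_true, List.all_eq_true, Bool.or_eq_true, Bool.not_eq_true'] at h
  obtain ⟨⟨⟨⟨⟨⟨⟨⟨hpc, hzX⟩, hz1⟩, hzm⟩, hzu⟩, hzc⟩, hfus⟩, hinv⟩, hsteps⟩ := h
  obtain ⟨H, hH, hHc, hHcard⟩ := exists_group pc hpc
  have hel := elems_valid pc hpc
  have hv : ∀ t ∈ elems pc, validT t = true := fun t ht => (hel t ht).1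
  have hzv := valid_inStab hzX
  have hHX : H ≤ X := fun σ hσ => by
    obtain ⟨t, ht, rfl⟩ := (hH σ).1 hσ
    exact hXeq ▸ (hel t ht).2
  have hzH : mkPerm z ∈ H := by
    obtain ⟨u, hu, he⟩ := mkPerm_eq_of_memT hv hzv hzm
    exact (hH _).2 ⟨u, hu, he⟩
  have hzne : mkPerm z ≠ 1 := fun he => by
    rw [tblEq_of_mkPerm_eq hzv idTbl_spec.1 (he.trans idTbl_spec.2.symm)] at hz1
    simp at hz1
  have hHz : ∀ σ ∈ H, σ * mkPerm z = mkPerm z * σ := by
    have hle : H ≤ Subgroup.centralizer {mkPerm z} := by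
      rw [hHc, Subgroup.closure_le]
      rintro _ ⟨g, hg, rfl⟩
      have hgv := (fst_mem_elems pc hpc g hg).1
      have he := mkPerm_eq_of_tblEq (tblMul_spec hgv hzv).1 (tblMul_spec hzv hgv).1 (hzc g hg)
      rw [(tblMul_spec hgv hzv).2, (tblMul_spec hzv hgv).2] at he
      exact Subgroup.mem_centralizer_singleton_iff.2 he
    exact fun σ hσ => Subgroup.mem_centralizer_singleton_iff.1 (hle hσ)
  -- the only nontrivial central element
  have hcent : ∀ x ∈ H, x ≠ 1 → (∀ s ∈ H, s * x = x * s) → x = mkPerm z := by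
    intro x hx hx1 hxc
    obtain ⟨t, ht, rfl⟩ := (hH x).1 hx
    have htv := hv t ht
    rcases hzu t ht with (hbad | h1) | h1
    · exfalso
      rw [List.all_eq_false] at hbad
      obtain ⟨g, hg, hgt⟩ := hbad
      obtain ⟨hgv, hgm⟩ := fst_mem_elems pc hpc g hg
      refine hgt (tblEq_of_mkPerm_eq (tblMul_spec hgv htv).1 (tblMul_spec htv hgv).1 ?_)
      rw [(tblMul_spec hgv htv).2, (tblMul_spec htv hgv).2]
      exact hxc _ ((hH _).2 hgm)
    · exact absurd ((mkPerm_eq_of_tblEq htv idTbl_spec.1 h1).trans idTbl_spec.2) hx1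
    · exact mkPerm_eq_of_tblEq htv hzv h1
  have hnormz : ∀ m ∈ Subgroup.normalizer (H : Set (Equiv.Perm GolayPt)),
      m * mkPerm z = mkPerm z * m := by
    intro m hm
    have h1 : m * mkPerm z * m⁻¹ = mkPerm z := by
      refine hcent _ ((Subgroup.mem_normalizer_iff.1 hm _).1 hzH) (fun he => hzne ?_) fun s hs => ?_
      · simpa using he
      · have hs' : m⁻¹ * s * m ∈ H := by
          apply (Subgroup.mem_normalizer_iff.1 hm _).2
          rwa [show m * (m⁻¹ * s * m) * m⁻¹ = s by group]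
        calc s * (m * mkPerm z * m⁻¹) = m * ((m⁻¹ * s * m) * mkPerm z) * m⁻¹ := by group
          _ = m * (mkPerm z * (m⁻¹ * s * m)) * m⁻¹ := by rw [hHz _ hs']
          _ = _ := by group
    calc m * mkPerm z = (m * mkPerm z * m⁻¹) * m := by group
      _ = mkPerm z * m := by rw [h1]
  have hinvset : ∀ m ∈ Subgroup.normalizer (H : Set (Equiv.Perm GolayPt)), m ∈ X →
      ∀ e ∈ inv ++ E, m • ptSet e = ptSet e := by
    intro m hm hmX e he
    rcases List.mem_append.1 he with he | he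
    · exact smul_inv_set hH hv hzv (hinv e he) hm (hnormz m hm)
    · exact (hXeq ▸ hmX : m ∈ stabGrp E F).2.1 e he
  have hNH : ∀ m ∈ Subgroup.normalizer (H : Set (Equiv.Perm GolayPt)), m ∈ X → m ∈ H := by
    intro m hm hmX
    refine normalizer_le_of_steps hH hv hzv hHX hHcard hn hcard
      (fun σ hσ => hinvset σ (Subgroup.le_normalizer hσ) (hHX hσ))
      (fun σ hσ => (hXeq ▸ hHX hσ : σ ∈ stabGrp E F).1) hHz steps F hsteps m hm hmX
      ⟨(hXeq ▸ hmX : m ∈ stabGrp E F).1, hinvset m hm hmX, (hXeq ▸ hmX : m ∈ stabGrp E F).2.2⟩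
      (hnormz m hm)
  refine ⟨H, hH, hv, hHX, hHcard, hNH, ?_⟩
  intro T' hT' hcl' ⟨w, hw, hw1, hwc⟩
  have hwz : w = mkPerm z := hcent w (hT' hw) hw1 hwc
  revert hfus
  split
  · next known hknown =>
    intro hfus
    have hk := runFus_mem hH hv (fun σ hσ => hXeq ▸ hσ) hcl' fus [z] known hknown (by
      intro t ht
      rw [List.mem_singleton] at ht
      subst ht
      exact ⟨hzv, hwz ▸ hw⟩)
    rw [List.all_eq_true] at hfus
    rw [hHc, Subgroup.closure_le]
    rintro _ ⟨g, hg, rfl⟩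
    have hgv := (fst_mem_elems pc hpc g hg).1
    obtain ⟨u, hu, he⟩ := mkPerm_eq_of_memT (fun u hu => by
      obtain ⟨v, -, rfl⟩ := List.mem_map.1 hu
      exact (wordT_mem hk v).1) hgv (hfus g hg)
    obtain ⟨v, -, rfl⟩ := List.mem_map.1 hu
    exact he ▸ (wordT_mem hk v).2
  · intro hfus
    simp at hfus

end Cfsg.Agent.H46.McLFusion
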