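import Cfsg.Agent.H46.McLFusion.Facts
import Cfsg.Agent.H89.MathieuTwoData
import Cfsg.Agent.Golay.ConwaySimple
import Cfsg.Agent.Golay.Co1
import Cfsg.Prelude.Def_Spor_Conway

/-!
A Sylow 2-subgroup of M22, seen inside McL, is self-normalising and rigid, so the 2-fusion system
of McL is simple.
-/

set_option autoImplicit false

namespace Cfsg.Agent.H46.McLFusion

open Cfsg Cfsg.Agent.Golay Cfsg.Agent.H89 Cfsg.Agent.H89.MathieuTwo
open scoped Pointwise

/-- The third short vector of the pair. -/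
def wVec : leechLattice := -(Spor.leechU + Spor.leechV)

lemma vec_facts : sqNorm Spor.leechU.1 = 32 ∧ sqNorm wVec.1 = 32 ∧
    dotInt Spor.leechU.1 wVec.1 = -8 := by
  decide +kernel

lemma mem_McL {g : Co0} :
    (g : Equiv.Perm leechLattice) ∈ Spor.McL ↔ g • Spor.leechV = Spor.leechV ∧ g • Spor.leechU = Spor.leechU :=
  ⟨fun h => ⟨h.1.2, h.2⟩, fun h => ⟨⟨g.2, h.1⟩, h.2⟩⟩

/-- The pair stabiliser is McL. -/
def mclEquiv : ↥(MulAction.stabilizer Co0 Spor.leechU ⊓ MulAction.stabilizer Co0 wVec) ≃* ↥Spor.McL where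
  toFun g := ⟨(g.1 : Equiv.Perm leechLattice), mem_McL.2 ⟨by
    have hU : g.1 • Spor.leechU = Spor.leechU := g.2.1
    have hW : g.1 • wVec = wVec := g.2.2
    have e : Spor.leechV = -wVec - Spor.leechU := by rw [wVec]; abel
    rw [e, co0_smul_sub, co0_smul_neg, hU, hW], g.2.1⟩⟩
  invFun g := ⟨⟨g.1, g.2.1.1⟩, ⟨g.2.2, by
    show (⟨g.1, g.2.1.1⟩ : Co0) • wVec = wVec
    have hU : (⟨g.1, g.2.1.1⟩ : Co0) • Spor.leechU = Spor.leechU := g.2.2
    have hV : (⟨g.1, g.2.1.1⟩ : Co0) • Spor.leechV = Spor.leechV := g.2.1.2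
    have e : wVec = -Spor.leechU - Spor.leechV := by rw [wVec]; abel
    rw [e, co0_smul_sub, co0_smul_neg, hU, hV]⟩⟩
  left_inv _ := rfl
  right_inv _ := rfl
  map_mul' _ _ := rfl

theorem card_McL : Nat.card Spor.McL = 898128000 := by
  rw [← Nat.card_congr mclEquiv.toEquiv]
  exact (isMcL_stabilizer vec_facts.1 vec_facts.2.1 vec_facts.2.2).2

/-- M22 as coordinate permutations inside McL. -/
def psi : ↥Spor.M22 →* ↥Spor.McL where
  toFun g := ⟨(permAut ⟨g.1, g.2.1.1⟩ : Equiv.Perm leechLattice), mem_McL.2 (by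
    have h0 : g.1 none = none := g.2.1.2
    have h1 : g.1 (some 0) = some 0 := g.2.2
    constructor <;>
    · refine Subtype.ext (funext fun i => ?_)
      obtain ⟨q, rfl⟩ : ∃ q, g.1 q = i := ⟨g.1.symm i, g.1.apply_symm_apply i⟩
      rw [permAut_apply ⟨g.1, g.2.1.1⟩]
      show _ = _
      simp only [Spor.leechV, Spor.leechU, Spor.vecV, Spor.vecU]
      have e0 : g.1 q = none ↔ q = none := by conv_lhs => rw [← h0, g.1.apply_eq_iff_eq]
      have e1 : g.1 q = some 0 ↔ q = some 0 := by conv_lhs => rw [← h1, g.1.apply_eq_iff_eq]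
      simp only [e0, e1])⟩
  map_one' := Subtype.ext (congrArg (Subtype.val : Co0 → Equiv.Perm leechLattice) (map_one permHom))
  map_mul' g h := Subtype.ext (congrArg (Subtype.val : Co0 → Equiv.Perm leechLattice)
    (map_mul permHom (⟨g.1, g.2.1.1⟩ : M24) (⟨h.1, h.2.1.1⟩ : M24)))

lemma psi_apply (g : ↥Spor.M22) (v : leechLattice) (i : GolayPt) :
    (((psi g : ↥Spor.McL) : Equiv.Perm leechLattice) v).1 (g.1 i) = v.1 i :=
  permAut_apply ⟨g.1, g.2.1.1⟩ v i

lemma psi_injective : Function.Injective psi := by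
  intro g h e
  refine Subtype.ext (Equiv.ext fun p => ?_)
  by_contra hne
  have h1 := psi_apply g (axisVec p) p
  rw [e] at h1
  obtain ⟨q, hq⟩ : ∃ q, h.1 q = g.1 p := ⟨h.1.symm (g.1 p), h.1.apply_symm_apply _⟩
  rw [← hq, psi_apply h (axisVec p) q] at h1
  have hqp : q ≠ p := fun e' => hne (by rw [← hq, e'])
  simp [axisVec, hqp] at h1

theorem orbit_check : orbQ (elems m22Pc) 0 1 = 3655614 ∧ orbQ (elems m22Pc) 0 6 = 4206656 ∧
    orbQ (elems m22Pc) 0 11 = 526336 ∧
    ptSet 3655614 ∪ ptSet 4206656 ∪ ptSet 526336 ∪ {none, some 0} = Finset.univ := by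
  decide +kernel

/-- The squared length equations of a vector constant on the five orbits. -/
theorem five_check : ((List.range 17).all fun a => (List.range 13).all fun c => (List.range 11).all fun d =>
    (List.range 5).all fun e =>
      let a : ℤ := (a : ℤ) - 8
      let c : ℤ := (c : ℤ) - 6
      let d : ℤ := (d : ℤ) - 5
      let e : ℤ := (e : ℤ) - 2
      !(5 * a + (8 - a) + 2 * c + 4 * d + 16 * e == 40 &&
        a * a + (8 - a) * (8 - a) + 2 * c * c + 4 * d * d + 16 * e * e == 64) ||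
      (a == 8 && c == 0 && d == 0 && e == 0)) = true := by
  decide +kernel

theorem five_eq {a b c d e : ℤ} (h1 : a + b = 8) (h2 : 5 * a + b + 2 * c + 4 * d + 16 * e = 40)
    (h3 : a * a + b * b + 2 * c * c + 4 * d * d + 16 * e * e = 64) :
    a = 8 ∧ b = 0 ∧ c = 0 ∧ d = 0 ∧ e = 0 := by
  have hb : b = 8 - a := by omega
  subst hb
  have ha := mul_self_nonneg (8 - a)
  have ha' := mul_self_nonneg a
  have hc := mul_self_nonneg c
  have hd := mul_self_nonneg d
  have he := mul_self_nonneg e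
  have a1 : -8 ≤ a ∧ a ≤ 8 := by constructor <;> nlinarith
  have c1 : -6 ≤ c ∧ c ≤ 6 := by constructor <;> nlinarith
  have d1 : -5 ≤ d ∧ d ≤ 5 := by constructor <;> nlinarith
  have e1 : -2 ≤ e ∧ e ≤ 2 := by constructor <;> nlinarith
  have h := five_check
  simp only [List.all_eq_true, List.mem_range] at h
  have h := h (a + 8).toNat (by omega) (c + 6).toNat (by omega) (d + 5).toNat (by omega)
    (e + 2).toNat (by omega)
  simp only [Bool.or_eq_true, Bool.not_eq_true', Bool.and_eq_false_iff, Bool.and_eq_true, beq_iff_eq,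
    beq_eq_false_iff_ne, Int.toNat_of_nonneg (show 0 ≤ a + 8 by omega),
    Int.toNat_of_nonneg (show 0 ≤ c + 6 by omega), Int.toNat_of_nonneg (show 0 ≤ d + 5 by omega),
    Int.toNat_of_nonneg (show 0 ≤ e + 2 by omega), add_sub_cancel_right] at h
  rcases h with (h | h) | h
  · exact absurd h2 h
  · exact absurd h3 h
  · exact ⟨h.1.1.1, by omega, h.1.1.2, h.1.2, h.2⟩

variable {H : Subgroup (Equiv.Perm GolayPt)}

/-- A short vector fixed by the orbits with the given products is the first axis. -/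
theorem eq_axis (hH : ∀ σ, σ ∈ H ↔ ∃ t ∈ elems m22Pc, mkPerm t = σ)
    (hv : ∀ t ∈ elems m22Pc, validT t = true) {w : leechLattice}
    (hw : ∀ σ ∈ H, ∀ p, w.1 (σ p) = w.1 p) (hn : sqNorm w.1 = 64)
    (hU : dotInt w.1 Spor.vecU = 32) (hV : dotInt w.1 Spor.vecV = -40) : w = axisVec none := by
  obtain ⟨o1, o6, o11, hcov⟩ := orbit_check
  have key : ∀ b m, b < 24 → orbQ (elems m22Pc) 0 b = m → ∀ p ∈ ptSet m, w.1 p = w.1 (pt b) := by
    intro b m hb hm p hp
    obtain ⟨σ, hσ, -, hσp⟩ := (mem_orbQ hH hv hb p).1 (hm.symm ▸ hp)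
    rw [← hσp, hw σ hσ]
  set a := w.1 none
  set b := w.1 (some 0)
  set c := w.1 (pt 11)
  set d := w.1 (pt 6)
  set e := w.1 (pt 1)
  have hval : ∀ p, w.1 p = if p = none then a else if p = some 0 then b else
      if p ∈ ptSet 526336 then c else if p ∈ ptSet 4206656 then d else e := by
    intro p
    have hp := Finset.eq_univ_iff_forall.1 hcov p
    simp only [Finset.mem_union, Finset.mem_insert, Finset.mem_singleton] at hp
    split_ifs with q0 q1 q2 q3
    · rw [q0]
    · rw [q1]
    · exact key 11 _ (by norm_num) o11 p q2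
    · exact key 6 _ (by norm_num) o6 p q3
    · rcases hp with ((hp | hp) | hp) | hp
      · exact key 1 _ (by norm_num) o1 p hp
      · exact absurd hp q3
      · exact absurd hp q2
      · rcases hp with hp | hp
        · exact absurd hp q0
        · exact absurd hp q1
  have hsum : ∀ G : GolayPt → ℤ → ℤ, ∑ p, G p (w.1 p) = ∑ p, G p (if p = none then a else if p = some 0
      then b else if p ∈ ptSet 526336 then c else if p ∈ ptSet 4206656 then d else e) :=
    fun G => Finset.sum_congr rfl fun p _ => by rw [← hval p]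
  have split5 : ∀ (K : GolayPt → ℤ) (k : ℤ), (∀ p, p ≠ none → p ≠ some 0 → K p = k) → ∀ G : ℤ → ℤ,
      ∑ p, K p * G (if p = none then a else if p = some 0 then b else
        if p ∈ ptSet 526336 then c else if p ∈ ptSet 4206656 then d else e) =
      K none * G a + K (some 0) * G b + k * (2 * G c + 4 * G d + 16 * G e) := by
    intro K k hK G
    have hd : ∀ p : GolayPt, (p = none ∧ p ≠ some 0) ∨ (p = some 0 ∧ p ≠ none) ∨ (p ≠ none ∧ p ≠ some 0) := by
      decide
    have e0 : ∀ p : GolayPt, K p * G (if p = none then a else if p = some 0 then b else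
        if p ∈ ptSet 526336 then c else if p ∈ ptSet 4206656 then d else e) =
        (if p = none then K none * G a else 0) + (if p = some 0 then K (some 0) * G b else 0) +
        (if p = none ∨ p = some 0 then 0 else if p ∈ ptSet 526336 then k * G c else
          if p ∈ ptSet 4206656 then k * G d else k * G e) := by
      intro p
      rcases hd p with ⟨q, q'⟩ | ⟨q, q'⟩ | ⟨q, q'⟩
      · simp [q]
      · simp [q]
      · rw [hK p q q']
        simp only [q, q', if_false, or_self]
        split_ifs <;> ring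
    have hcnt : (Finset.univ.filter fun p : GolayPt => ¬(p = none ∨ p = some 0) ∧ p ∈ ptSet 526336).card = 2 ∧
        (Finset.univ.filter fun p : GolayPt => ¬(p = none ∨ p = some 0) ∧ p ∉ ptSet 526336 ∧ p ∈ ptSet 4206656).card = 4 ∧
        (Finset.univ.filter fun p : GolayPt => ¬(p = none ∨ p = some 0) ∧ p ∉ ptSet 526336 ∧ p ∉ ptSet 4206656).card = 16 := by
      decide +kernel
    rw [Finset.sum_congr rfl fun p _ => e0 p, Finset.sum_add_distrib, Finset.sum_add_distrib,
      Finset.sum_ite_eq', Finset.sum_ite_eq', Finset.sum_ite, Finset.sum_ite, Finset.sum_ite,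
      Finset.filter_filter, Finset.filter_filter, Finset.filter_filter]
    simp only [Finset.sum_const, Finset.mem_univ, if_true, Finset.filter_filter, and_assoc, hcnt, nsmul_eq_mul]
    ring
  rw [dotInt] at hU hV
  rw [sqNorm] at hn
  rw [hsum (fun _ x => x ^ 2)] at hn
  rw [hsum (fun p x => x * Spor.vecU p)] at hU
  rw [hsum (fun p x => x * Spor.vecV p)] at hV
  have s1 := split5 (fun _ => 1) 1 (fun _ _ _ => rfl) (fun x => x ^ 2)
  simp only [one_mul] at s1
  have s2 := split5 Spor.vecU 0 (fun p q q' => by simp [Spor.vecU, q, q']) id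
  have s3 := split5 Spor.vecV (-1) (fun p q _ => by simp [Spor.vecV, q]) id
  simp only [id, mul_comm (Spor.vecU _), mul_comm (Spor.vecV _)] at s2 s3
  rw [s1] at hn
  rw [s2] at hU
  rw [s3] at hV
  simp [Spor.vecU, Spor.vecV] at hU hV
  obtain ⟨ea, eb, ec, ed, ee⟩ := five_eq (a := a) (b := b) (c := c) (d := d) (e := e)
    (by linarith) (by linarith) (by linarith [pow_two a, pow_two b, pow_two c, pow_two d, pow_two e])
  refine Subtype.ext (funext fun p => ?_)
  rw [hval p, ea, eb, ec, ed, ee]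
  show _ = (Pi.single none 8 : GolayPt → ℤ) p
  rcases eq_or_ne p none with rfl | q
  · simp
  · simp [q]

/-- An element of McL normalising the image lies in the image of M22. -/
theorem mem_range_of_normalizes (hH : ∀ σ, σ ∈ H ↔ ∃ t ∈ elems m22Pc, mkPerm t = σ)
    (hv : ∀ t ∈ elems m22Pc, validT t = true) (hHX : H ≤ Spor.M22) {n : ↥Spor.McL}
    (hn : ∀ h : ↥Spor.M22, h.1 ∈ H → ∃ k : ↥Spor.M22, k.1 ∈ H ∧ n⁻¹ * psi h * n = psi k) :
    n ∈ psi.range := by
  set g : Co0 := ⟨n.1, n.2.1.1⟩ with hg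
  have gU : g • Spor.leechU = Spor.leechU := n.2.2
  have gV : g • Spor.leechV = Spor.leechV := n.2.1.2
  have hax : g • axisVec none = axisVec none := by
    refine eq_axis hH hv (fun σ hσ p => ?_) ?_ ?_ ?_
    · obtain ⟨k, hk, he⟩ := hn ⟨σ, hHX hσ⟩ hσ
      have hkfix : ((psi k : ↥Spor.McL) : Equiv.Perm leechLattice) (axisVec none) = axisVec none := by
        refine Subtype.ext (funext fun i => ?_)
        obtain ⟨q, rfl⟩ : ∃ q, k.1 q = i := ⟨k.1.symm i, k.1.apply_symm_apply i⟩
        rw [psi_apply]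
        have h0 : k.1 none = none := k.2.1.2
        rcases eq_or_ne q none with rfl | hq
        · rw [h0]
        · have : k.1 q ≠ none := fun e' => hq (k.1.injective (e'.trans h0.symm))
          show (Pi.single none 8 : GolayPt → ℤ) q = (Pi.single none 8 : GolayPt → ℤ) _
          simp [hq, this]
      have he' : psi ⟨σ, hHX hσ⟩ * n = n * psi k := by rw [← he]; group
      have e2 : ((psi ⟨σ, hHX hσ⟩ : ↥Spor.McL) : Equiv.Perm leechLattice) (n.1 (axisVec none)) =
          n.1 (axisVec none) := by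
        have := congrArg (fun x : ↥Spor.McL => x.1 (axisVec none)) he'
        simp only [Subgroup.coe_mul, Equiv.Perm.mul_apply, hkfix] at this
        exact this
      have e3 := psi_apply ⟨σ, hHX hσ⟩ (n.1 (axisVec none)) p
      rw [e2] at e3
      exact e3
    · rw [co0_sqNorm]
      exact (sqNorm_single none 8).trans (by norm_num)
    · show dotInt (g • axisVec none).1 Spor.leechU.1 = 32
      rw [← gU, co0_dot]
      decide +kernel
    · show dotInt (g • axisVec none).1 Spor.leechV.1 = -40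
      rw [← gV, co0_dot]
      decide +kernel
  have hcs : g ∈ crossStab := by
    rw [crossStab, MulAction.mem_stabilizer_iff, ← crossSet_axis none, smul_crossSet, hax]
  obtain ⟨σ, c, he⟩ := stdCross_stabiliser_eq_monomial g (mem_crossStab.1 hcs)
  have hval : ∀ (v : leechLattice) q, g • v = v →
      v.1 (σ.1 q) = if σ.1 q ∈ c.1 then -v.1 q else v.1 q := by
    intro v q hq
    conv_lhs => rw [← hq]
    rw [he, monoAut_eq, mul_smul, signAut_apply, permAut_apply]
  have hc : ∀ q, σ.1 q ∉ c.1 := fun q hq => by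
    have := hval _ q gV
    rw [if_pos hq] at this
    simp only [Spor.leechV, Spor.vecV] at this
    split_ifs at this <;> omega
  have h0 : σ.1 none = none := by
    have := hval _ none gV
    rw [if_neg (hc none)] at this
    simp only [Spor.leechV, Spor.vecV] at this
    by_contra hne
    simp [hne] at this
  have h1 : σ.1 (some 0) = some 0 := by
    have := hval _ (some 0) gU
    rw [if_neg (hc (some 0))] at this
    simp only [Spor.leechU, Spor.vecU] at this
    by_contra hne
    have : σ.1 (some 0) = none := by simpa [hne] using this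
    exact absurd (σ.1.injective (this.trans h0.symm)) (by simp)
  refine ⟨⟨σ.1, ⟨σ.2, h0⟩, h1⟩, Subtype.ext ?_⟩
  show (permAut σ : Equiv.Perm leechLattice) = n.1
  rw [show n.1 = (g : Equiv.Perm leechLattice) from rfl, he, monoAut_eq]
  refine congrArg Subtype.val ?_
  refine Subtype.ext (Equiv.ext fun v => Subtype.ext (funext fun i => ?_))
  show (permAut σ • v).1 i = (signAut c • permAut σ • v).1 i
  obtain ⟨q, rfl⟩ : ∃ q, σ.1 q = i := ⟨σ.1.symm i, σ.1.apply_symm_apply i⟩
  rw [signAut_apply, if_neg (hc q)]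

/-- Simplicity of the fusion system, for any group with an isomorphism to McL. -/
theorem isSimple_fusion (hchk : checkAll [] (0 ||| 2 ^ 23 ||| 2 ^ 0) m22Pc m22Z m22Fus m22Words m22Inv m22Norm = true)
    {G : Type*} [Group G] [Finite G] (e : G ≃* ↥Spor.McL) (S : Sylow 2 G) :
    (groupFusionSystem (S : Subgroup G)).IsSimple 2 := by
  haveI : Fact (Nat.Prime 2) := ⟨Nat.prime_two⟩
  obtain ⟨H, hH, hv, hHX, hHcard, hNH, hrig⟩ := facts_of_checkAll hchk spor_M22_eq (n := 3465)
    (by norm_num) (by rw [card_spor_M22]; rfl)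
  let f : ↥Spor.M22 →* G := e.symm.toMonoidHom.comp psi
  have hf : Function.Injective f := e.symm.injective.comp psi_injective
  set P : Subgroup G := (H.subgroupOf Spor.M22).map f with hPdef
  have hP : Nat.card P = 2 ^ 7 := by
    rw [← Nat.card_congr ((H.subgroupOf Spor.M22).equivMapOfInjective f hf).toEquiv,
      Nat.card_congr (Subgroup.subgroupOfEquivOfLe hHX).toEquiv, hHcard]
    rfl
  refine isSimple_of_fusionRigid_conj P (IsPGroup.of_card hP) ?_ ?_ ?_ ?_ S
  · have hi := Subgroup.card_mul_index P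
    rw [hP, Nat.card_congr e.toEquiv, card_McL] at hi
    omega
  · intro hb
    rw [hb, Subgroup.card_bot] at hP
    norm_num at hP
  · intro m hm
    have hmem : ∀ h : ↥Spor.M22, f h ∈ P ↔ h.1 ∈ H := fun h => by
      rw [hPdef, Subgroup.mem_map_iff_mem hf, Subgroup.mem_subgroupOf]
    have hn := mem_range_of_normalizes hH hv hHX (n := e m) (fun h hh => by
      have h' : m⁻¹ * f h * m ∈ P := by
        have := (Subgroup.mem_normalizer_iff.1 (inv_mem hm) (f h)).1 ((hmem h).2 hh)
        rwa [inv_inv] at this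
      obtain ⟨k, hk, hke⟩ := Subgroup.mem_map.1 h'
      refine ⟨k, hk, ?_⟩
      have h'' := congrArg e hke
      simpa [f] using h''.symm)
    obtain ⟨s, hs⟩ := hn
    have hms : f s = m := by simp [f, hs]
    rw [← hms, hmem]
    refine hNH s.1 (Subgroup.mem_normalizer_iff.2 fun x => ?_) s.2
    rw [← hms, Subgroup.mem_normalizer_iff] at hm
    constructor
    · intro hx
      have := (hm (f ⟨x, hHX hx⟩)).1 ((hmem _).2 hx)
      rw [← map_inv, ← map_mul, ← map_mul, hmem] at this
      exact this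
    · intro hx
      have hxX : x ∈ Spor.M22 := by
        have := mul_mem (mul_mem (inv_mem s.2) (hHX hx)) s.2
        rwa [show s.1⁻¹ * (s.1 * x * s.1⁻¹) * s.1 = x by group] at this
      exact (hmem ⟨x, hxX⟩).1 ((hm (f ⟨x, hxX⟩)).2 (by
        rw [← map_inv, ← map_mul, ← map_mul, hmem]; exact hx))
  · intro T hT hcl ⟨w, hw, hw1, hwc⟩
    have hle := hrig ((T.comap f).map Spor.M22.subtype) ?_ ?_ ?_
    · refine le_antisymm hT ?_
      rintro _ ⟨s, hs, rfl⟩
      obtain ⟨y, hy, hys⟩ := Subgroup.mem_map.1 (hle (Subgroup.mem_subgroupOf.1 hs))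
      rwa [show s = y from (Subtype.ext hys).symm]
    · rintro _ ⟨x, hx, rfl⟩
      obtain ⟨y, hy, hyx⟩ := Subgroup.mem_map.1 (hT hx)
      exact hf hyx ▸ Subgroup.mem_subgroupOf.1 hy
    · rintro _ ⟨x, hx, rfl⟩ g hg hgx
      refine ⟨⟨g, hg⟩ * x * (⟨g, hg⟩ : ↥Spor.M22)⁻¹, ?_, rfl⟩
      show f _ ∈ T
      have hin : f (⟨g, hg⟩ * x * (⟨g, hg⟩ : ↥Spor.M22)⁻¹) ∈ P :=
        (Subgroup.mem_map_iff_mem hf).2 (Subgroup.mem_subgroupOf.2 hgx)
      rw [map_mul, map_mul, map_inv] at hin ⊢
      exact hcl _ hx _ hin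
    · obtain ⟨y, hy, rfl⟩ := Subgroup.mem_map.1 (hT hw)
      refine ⟨y.1, ⟨y, hw, rfl⟩, fun h1 => hw1 (by rw [show y = 1 from Subtype.ext h1, map_one]),
        fun s hs => ?_⟩
      have := hwc (f ⟨s, hHX hs⟩) ((Subgroup.mem_map_iff_mem hf).2 (Subgroup.mem_subgroupOf.2 hs))
      rw [← map_mul, ← map_mul] at this
      exact congrArg Subtype.val (hf this)

end Cfsg.Agent.H46.McLFusion
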